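import Cfsg.Agent.H525.RO.BNo
import Cfsg.Agent.H525.RO.HnElt
import Cfsg.Agent.H849.SubHN
import Cfsg.Agent.BabyM.HNB
import Cfsg.Agent.BabyM.Instance
import Cfsg.Agent.BM.KHAll

/-!
# The Baby Monster has a real element of order 25 with centraliser of odd order

The element is in a subgroup `HN`.
-/

set_option autoImplicit false

namespace Cfsg.Agent.H525.RO.BRow

open Cfsg

/-- the Harada-Norton group embeds in the Baby Monster -/
theorem exists_hom : ∃ φ : Spor.HN →* Spor.BabyMonster, Function.Injective φ := by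
  obtain ⟨K, ⟨e⟩, -⟩ := Cfsg.Agent.H849.SubHN.hn_of Cfsg.Agent.S1701.result Cfsg.Agent.BabyM.HNB.gen
    (Cfsg.Agent.BabyM.HNB.rels Cfsg.Agent.BabyM.Instance.all Cfsg.Agent.BabyM.Instance.ok)
    ⟨.x, fun h => Cfsg.Agent.BabyM.HNB.j_ne Cfsg.Agent.BabyM.Instance.all (by
      have h1 : Cfsg.Agent.BabyM.HNB.wd Cfsg.Agent.BabyM.HNBWords.xw = 1 := h
      rw [← Cfsg.Agent.BabyM.HNB.x_sq Cfsg.Agent.BabyM.Instance.all Cfsg.Agent.BabyM.Instance.ok, h1, one_mul])⟩
  refine ⟨(Cfsg.Agent.BM.KHAll.iso.symm.toMonoidHom.comp K.subtype).comp e.symm.toMonoidHom, ?_⟩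
  exact (Cfsg.Agent.BM.KHAll.iso.symm.injective.comp K.subtype_injective).comp e.symm.injective

theorem b_main : H101.RO.RealOdd Spor.BabyMonster := by
  have hS := Cfsg.Agent.S1701.result.1
  have hB : Cfsg.IsB Cfsg.Spor.BabyMonster := Cfsg.Agent.S1704.result
  have : Finite Spor.BabyMonster := Nat.finite_of_card_ne_zero (by rw [hB.2]; norm_num)
  obtain ⟨φ, hφ⟩ := exists_hom
  obtain ⟨b, g, hb, ho⟩ := HnElt.exists_order
  refine H101.RO.RealOdd.of_elts (x := φ (b * (g⁻¹ * b * g))) (y := φ b) (p := 5) (k := 2) Nat.prime_five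
    (by norm_num) (by norm_num) ?_ ?_ ?_
  · rw [orderOf_injective φ hφ, ho]; norm_num
  · rw [← map_inv, ← map_inv, ← map_mul, ← map_mul]
    refine congrArg φ ?_
    have hbi : b⁻¹ = b := inv_eq_of_mul_eq_one_left hb
    have h1 : (g⁻¹ * b * g)⁻¹ = g⁻¹ * b * g := by rw [mul_inv_rev, mul_inv_rev, inv_inv, hbi, mul_assoc]
    rw [mul_inv_rev, h1, hbi, ← mul_assoc b b, hb, one_mul]
  · intro t ht
    exact BNo.no_comm ht (by rw [orderOf_injective φ hφ, ho])

universe u

/-- **The Baby Monster row of S2248** -/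
theorem b {K : Type u} [Group K] (h : Spor.IsoB K) : H101.RO.RealOdd K := by
  obtain ⟨e⟩ := h
  exact b_main.congr e.symm

end Cfsg.Agent.H525.RO.BRow
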