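import Cfsg.Agent.HN.A12
import Cfsg.Agent.HN.A12Group
import Cfsg.Agent.SigZeroHN.Main
import Cfsg.Agent.UGT.LTF.Link
import Cfsg.Agent.H101.RealOdd
import Cfsg.Agent.TwoFusion.CyclicAut
import Cfsg.Agent.S1701

/-!
# The Harada-Norton group has a real element of odd prime power order with a centraliser of odd order

The element is the image of a 9-cycle under an embedding of the alternating group of degree 12; no involution commutes
with it because the centralisers of involutions have elementary abelian Sylow 3-subgroups of order 9.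
-/

set_option autoImplicit false

namespace Cfsg.Agent.H525.RO

open Subgroup

/-- If `p ^ 3` does not divide `|C(u)|` and two commuting independent elements of order `p` commute with `u`, then no
element of order `p ^ 2` commutes with `u`. -/
theorem no_sq {G : Type*} [Group G] [Finite G] {p : ℕ} (hp : p.Prime) {u a b : G}
    (h3 : ¬ p ^ 3 ∣ Nat.card ↥(centralizer ({u} : Set G))) (ha : orderOf a = p) (hb : orderOf b = p)
    (hab : a * b = b * a) (hau : a * u = u * a) (hbu : b * u = u * b) (hn : b ∉ zpowers a) {x : G}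
    (hx : orderOf x = p ^ 2) : ¬ u * x = x * u := by
  intro hxu
  have : Fact p.Prime := ⟨hp⟩
  let C : Subgroup G := centralizer ({u} : Set G)
  let a' : C := ⟨a, mem_centralizer_singleton_iff.2 hau⟩
  let b' : C := ⟨b, mem_centralizer_singleton_iff.2 hbu⟩
  let x' : C := ⟨x, mem_centralizer_singleton_iff.2 hxu.symm⟩
  have ha' : orderOf a' = p := (Subgroup.orderOf_mk a _).trans ha
  have hb' : orderOf b' = p := (Subgroup.orderOf_mk b _).trans hb
  have hx' : orderOf x' = p ^ 2 := (Subgroup.orderOf_mk x _).trans hx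
  have hxp : IsPGroup p (zpowers x') := IsPGroup.of_card (n := 2) (by rw [Nat.card_zpowers, hx'])
  obtain ⟨P, hP⟩ := hxp.exists_le_sylow
  -- `P = ⟨x⟩`
  have hPx : (P : Subgroup C) = zpowers x' := by
    obtain ⟨n, hn⟩ := IsPGroup.iff_card.1 P.2
    have h1 : Nat.card (zpowers x') ∣ Nat.card P := Subgroup.card_dvd_of_le hP
    rw [Nat.card_zpowers, hx', hn] at h1
    have h2 : p ^ n ∣ Nat.card C := hn ▸ Subgroup.card_subgroup_dvd_card (P : Subgroup C)
    have h4 : n < 3 := by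
      by_contra h
      exact h3 ((pow_dvd_pow p (by omega)).trans h2)
    have h5 : 2 ≤ n := (Nat.pow_dvd_pow_iff_le_right hp.one_lt).1 h1
    have h6 : n = 2 := by omega
    subst h6
    exact (Subgroup.eq_of_le_of_card_ge hP (by rw [Nat.card_zpowers, hx', hn])).symm
  -- the group `⟨a, b⟩`
  have hap : IsPGroup p (zpowers a') := IsPGroup.of_card (n := 1) (by rw [Nat.card_zpowers, ha', pow_one])
  have hbp : IsPGroup p (zpowers b') := IsPGroup.of_card (n := 1) (by rw [Nat.card_zpowers, hb', pow_one])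
  have hab' : a' * b' = b' * a' := Subtype.ext hab
  have hnorm : zpowers a' ≤ normalizer ((zpowers b' : Subgroup C) : Set C) := by
    rw [zpowers_le, mem_normalizer_iff]
    intro z
    have hc : ∀ z ∈ zpowers b', a' * z * a'⁻¹ = z := by
      rintro _ ⟨k, rfl⟩
      have h1 : a' * b' ^ k = b' ^ k * a' := (show Commute a' b' from hab').zpow_right k
      show a' * b' ^ k * a'⁻¹ = b' ^ k
      rw [h1, mul_inv_cancel_right]
    constructor
    · intro hz
      rw [hc z hz]; exact hz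
    · intro hz
      have h1 : a'⁻¹ * (a' * z * a'⁻¹) * a' = a' * z * a'⁻¹ := by
        have h2 := hc _ hz
        have h3 : a' * (a' * z * a'⁻¹) = (a' * z * a'⁻¹) * a' := by
          rw [← mul_inv_eq_iff_eq_mul]; exact h2
        rw [mul_assoc, ← h3, ← mul_assoc, inv_mul_cancel, one_mul]
      have h2 : z = a' * z * a'⁻¹ := by
        rw [← h1]; group
      rw [h2]; exact hz
  have hE : IsPGroup p (zpowers a' ⊔ zpowers b' : Subgroup C) := hap.to_sup_of_normal_right' hbp hnorm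
  obtain ⟨Q, hQ⟩ := hE.exists_le_sylow
  -- `Q` is cyclic
  have hQc : IsCyclic (Q : Subgroup C) := by
    have h1 : IsCyclic (P : Subgroup C) := by rw [hPx]; infer_instance
    exact (P.equiv Q).isCyclic.1 h1
  have haQ : a' ∈ (Q : Subgroup C) := hQ ((le_sup_left : zpowers a' ≤ _) (mem_zpowers a'))
  have hbQ : b' ∈ (Q : Subgroup C) := hQ ((le_sup_right : zpowers b' ≤ _) (mem_zpowers b'))
  let a2 : Q := ⟨a', haQ⟩
  let b2 : Q := ⟨b', hbQ⟩
  have ha2 : orderOf a2 = p := (Subgroup.orderOf_mk a' _).trans ha'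
  have hb2 : orderOf b2 = p := (Subgroup.orderOf_mk b' _).trans hb'
  have hmem : b2 ∈ zpowers a2 := by
    rw [Cfsg.Agent.TwoFusion.CyclicAut.zpowers_eq_of_orderOf_eq a2 b2 (ha2.trans hb2.symm)]
    exact mem_zpowers _
  obtain ⟨k, hk⟩ := hmem
  apply hn
  refine ⟨k, ?_⟩
  have h1 := congrArg (fun z : Q => ((z : C) : G)) hk
  simpa using h1

/-! ### The straight line program -/

section SLP

open Cfsg.Agent.Lib.PackMat Cfsg.Agent.Lib.PackMatGroup Cfsg.Agent.Lib.PackMatMul Cfsg.Agent.HN.RepData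
open Cfsg.Agent.HN Cfsg.Agent.HN.A12Group
open Cfsg.Agent.HN.Rep (LG gens rho)
open Cfsg.Agent.HN.A12 (ws results)
open Cfsg.Agent.HN.A12Step (L20)

theorem getD_runG {G : Type*} [Group G] (w : List (ℕ × List ℕ)) (l : List G) (k : ℕ) :
    (runG w l).getD (w.length + k) 1 = l.getD k 1 := by
  induction w generalizing l k with
  | nil => rw [runG_nil, List.length_nil, zero_add]
  | cons a w ih =>
    rw [runG_cons, List.length_cons, show w.length + 1 + k = w.length + (k + 1) by omega, ih, List.getD_cons_succ]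

/-- continuation of the program of `A12`: `q = e₀ e₁ e₂ e₃ e₀ e₁ e₄ e₅ · t⁻¹ y³ x² t`, `q⁵`, `q²⁵`, `1` -/
def ws2 : List (ℕ × List ℕ) :=
  [(9, [8, 7, 6, 9, 8, 5, 4, 27, 22, 22, 22, 20, 20, 26]), (0, [0, 0, 0, 0]), (0, [0, 0, 0, 0]), (23, [24])]

theorem check2 : checkS C ws2 [(1, 0)] [] L20 = true := by decide +kernel

theorem sound2 : (runG ws2 (runG ws LG)).getD 1 1 = (runG ws2 (runG ws LG)).getD 0 1 :=
  (checkS_sound (good_of_check Rep.good) results check2 (by decide +kernel)).1 (1, 0) (by simp)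

theorem rho_run2 (i : ℕ) : rho ((runG ws2 (runG ws gens)).getD i 1) = (runG ws2 (runG ws LG)).getD i 1 := by
  rw [← Rep.gens_map, runG_map, runG_map, List.getD_eq_getElem?_getD, List.getD_eq_getElem?_getD, List.getElem?_map]
  cases (runG ws2 (runG ws gens))[i]? with
  | none => simp
  | some b => simp

/-- the image of `(0 2)(1 3)(4 10)(5 11)` -/
noncomputable def s4 : Cfsg.Spor.HN := e 0 * e 1 * e 2 * e 3 * e 0 * e 1 * e 4 * e 5

theorem get_letter (k : ℕ) : (runG ws gens).getD (20 + k) 1 = gens.getD k 1 := getD_runG ws gens k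

theorem q_pow [IsSimpleGroup Cfsg.Spor.HN] : (s4 * (Rep.t⁻¹ * XWords.W0 * Rep.t)) ^ 25 = 1 := by
  apply rho_injective
  have h1 := rho_run2 1
  have h0 := rho_run2 0
  rw [sound2, ← h0] at h1
  have l0 : (runG ws gens).getD 20 1 = Rep.x := get_letter 0
  have l1 : (runG ws gens).getD 21 1 = Rep.x⁻¹ := get_letter 1
  have l2 : (runG ws gens).getD 22 1 = Rep.y := get_letter 2
  have l6 : (runG ws gens).getD 26 1 = Rep.t := get_letter 6
  have l7 : (runG ws gens).getD 27 1 = Rep.t⁻¹ := get_letter 7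
  have e0 : (runG ws gens).getD 9 1 = e 0 := rfl
  have e1 : (runG ws gens).getD 8 1 = e 1 := rfl
  have e2 : (runG ws gens).getD 7 1 = e 2 := rfl
  have e3 : (runG ws gens).getD 6 1 = e 3 := rfl
  have e4 : (runG ws gens).getD 5 1 = e 4 := rfl
  have e5 : (runG ws gens).getD 4 1 = e 5 := rfl
  generalize runG ws gens = l at *
  simp only [ws2, runG_cons, runG_nil, evG_cons, evG_nil, List.getD_cons_zero, List.getD_cons_succ] at h1
  rw [l0, l1, l2, l6, l7, e0, e1, e2, e3, e4, e5] at h1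
  have hq : e 0 * (e 1 * (e 2 * (e 3 * (e 0 * (e 1 * (e 4 * (e 5 * (Rep.t⁻¹ *
      (Rep.y * (Rep.y * (Rep.y * (Rep.x * (Rep.x * (Rep.t * 1)))))))))))))) =
      s4 * (Rep.t⁻¹ * XWords.W0 * Rep.t) := by
    have hW : XWords.W0 = Rep.y * (Rep.y * (Rep.y * (Rep.x * (Rep.x * 1)))) := rfl
    rw [hW]
    unfold s4
    simp only [mul_assoc, mul_one]
  rw [hq] at h1
  rw [map_one]
  have h2 : rho (Rep.x * (Rep.x⁻¹ * 1)) = 1 := by rw [mul_one, mul_inv_cancel, map_one]
  rw [h2] at h1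
  rw [← h1]
  generalize s4 * (Rep.t⁻¹ * XWords.W0 * Rep.t) = q
  refine congrArg rho ?_
  simp only [pow_succ, pow_zero, one_mul, mul_one, mul_assoc]

end SLP

/-! ### The alternating group of degree 12 -/

section Alt

open Cfsg.Agent.Lib.AltCarmichael Equiv

/-- the double transposition `(0 10)(1 11)` as a product of two generators, and seven points fixed -/
def sA : Perm (Fin 12) := cyc 10 0 * cyc 10 1

/-- `(0 2)(1 3)(4 10)(5 11)` -/
def sB : Perm (Fin 12) := cyc 10 0 * cyc 10 1 * cyc 10 2 * cyc 10 3 * cyc 10 0 * cyc 10 1 * cyc 10 4 * cyc 10 5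

/-- `(2 3 4)` -/
def aA : Perm (Fin 12) := swap 2 3 * swap 3 4

/-- `(5 6 7)` -/
def bA : Perm (Fin 12) := swap 5 6 * swap 6 7

/-- `(2 3 4 5 6 7 8)` -/
def cA : Perm (Fin 12) := swap 2 3 * swap 3 4 * swap 4 5 * swap 5 6 * swap 6 7 * swap 7 8

/-- `(6 7 8)` -/
def aB : Perm (Fin 12) := swap 6 7 * swap 7 8

/-- `(0 1 4)(2 3 10)` -/
def bB : Perm (Fin 12) := swap 0 1 * swap 1 4 * (swap 2 3 * swap 3 10)

/-- the 9-cycle -/
def x9 : Perm (Fin 12) := swap 0 1 * swap 1 2 * swap 2 3 * swap 3 4 * swap 4 5 * swap 5 6 * swap 6 7 * swap 7 8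

/-- the inverting element -/
def y9 : Perm (Fin 12) := swap 0 8 * swap 1 7 * swap 2 6 * swap 3 5

theorem facts : sA * sA = 1 ∧ sB * sB = 1 ∧ sA ≠ 1 ∧ sB ≠ 1 ∧
    aA ^ 3 = 1 ∧ bA ^ 3 = 1 ∧ aB ^ 3 = 1 ∧ bB ^ 3 = 1 ∧ cA ^ 7 = 1 ∧ x9 ^ 9 = 1 ∧
    aA ≠ 1 ∧ bA ≠ 1 ∧ aB ≠ 1 ∧ bB ≠ 1 ∧ cA ≠ 1 ∧ x9 ^ 3 ≠ 1 ∧
    aA * bA = bA * aA ∧ aB * bB = bB * aB ∧ aA * sA = sA * aA ∧ bA * sA = sA * bA ∧ cA * sA = sA * cA ∧
    aB * sB = sB * aB ∧ bB * sB = sB * bB ∧ y9 * x9 * y9⁻¹ = x9⁻¹ ∧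
    bA ≠ 1 ∧ bA ≠ aA ∧ bA ≠ aA ^ 2 ∧ bB ≠ aB ∧ bB ≠ aB ^ 2 := by decide +kernel

theorem signs : (sA.sign = 1 ∧ sB.sign = 1 ∧ aA.sign = 1 ∧ bA.sign = 1 ∧ cA.sign = 1) ∧
    (aB.sign = 1 ∧ bB.sign = 1 ∧ x9.sign = 1 ∧ y9.sign = 1) := by decide +kernel

/-- as an element of the alternating group -/
def al (s : Perm (Fin 12)) (h : s.sign = 1) : alternatingGroup (Fin 12) := ⟨s, Perm.mem_alternatingGroup.2 h⟩

open Cfsg.Agent.HN.A12Group in
theorem exists_phi [IsSimpleGroup Cfsg.Spor.HN] : ∃ φ : alternatingGroup (Fin 12) →* Cfsg.Spor.HN,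
    Function.Injective φ ∧ φ (al sB signs.1.2.1) = s4 := by
  obtain ⟨φ, hφ⟩ := exists_hom (by norm_num) rel_e
  have hsimple : IsSimpleGroup (alternatingGroup (Fin (10 + 2))) :=
    alternatingGroup.isSimpleGroup (by rw [Nat.card_eq_fintype_card, Fintype.card_fin]; omega)
  refine ⟨φ, ?_, ?_⟩
  · rw [← MonoidHom.ker_eq_bot_iff]
    rcases (inferInstance : φ.ker.Normal).eq_bot_or_eq_top with hb | ht
    · exact hb
    · exfalso
      apply e4_ne
      rw [← hφ 4 (by norm_num), ← MonoidHom.mem_ker, ht]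
      exact Subgroup.mem_top _
  · unfold s4
    rw [← hφ 0 (by norm_num), ← hφ 1 (by norm_num), ← hφ 2 (by norm_num), ← hφ 3 (by norm_num),
      ← hφ 4 (by norm_num), ← hφ 5 (by norm_num)]
    simp only [← map_mul]
    rfl

theorem orderOf_al {s : Perm (Fin 12)} (h : s.sign = 1) {p n : ℕ} [Fact p.Prime] (h1 : s ^ p ^ n ≠ 1)
    (h2 : s ^ p ^ (n + 1) = 1) : orderOf (al s h) = p ^ (n + 1) := by
  apply orderOf_eq_prime_pow
  · intro h3
    exact h1 (congrArg Subtype.val h3)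
  · exact Subtype.ext h2

/-- if a conjugate `u'` of `u` commutes with no element of order `n`, neither does `u` -/
theorem of_conj {G : Type*} [Group G] {u u' x : G} {n : ℕ} (h : IsConj u' u)
    (hu : ∀ x, orderOf x = n → ¬ u' * x = x * u') (hx : orderOf x = n) : ¬ u * x = x * u := by
  obtain ⟨c, rfl⟩ := isConj_iff.1 h
  intro hc
  refine hu (c⁻¹ * x * c) ?_ ?_
  · rw [← hx]
    have e : c⁻¹ * x * c = MulAut.conj c⁻¹ x := by rw [MulAut.conj_apply, inv_inv]
    rw [e, MulEquiv.orderOf_eq]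
  · calc u' * (c⁻¹ * x * c) = c⁻¹ * (c * u' * c⁻¹ * x) * c := by group
      _ = c⁻¹ * (x * (c * u' * c⁻¹)) * c := by rw [hc]
      _ = c⁻¹ * x * c * u' := by group

theorem not_mem_zpowers {G : Type*} [Group G] {a b : G} (ha : orderOf a = 3) (h0 : b ≠ 1) (h1 : b ≠ a)
    (h2 : b ≠ a ^ 2) : b ∉ zpowers a := by
  rintro ⟨k, hk⟩
  have h3 : a ^ (k % 3) = a ^ k := by
    have := zpow_mod_orderOf a k
    rwa [ha] at this
  have hk' : a ^ k = b := hk
  rw [hk'] at h3
  have h4 : k % 3 = 0 ∨ k % 3 = 1 ∨ k % 3 = 2 := by omega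
  rcases h4 with h | h | h
  · rw [h, zpow_zero] at h3; exact h0 h3.symm
  · rw [h, zpow_one] at h3; exact h1 h3.symm
  · rw [h] at h3; exact h2 (by rw [← h3]; norm_cast)

theorem hn_main : H101.RO.RealOdd Cfsg.Spor.HN := by
  obtain ⟨h1, h2⟩ := Cfsg.Agent.S1701.result
  have : Finite Cfsg.Spor.HN := Nat.finite_of_card_ne_zero (by rw [h2]; norm_num)
  have h3p : Fact (Nat.Prime 3) := ⟨Nat.prime_three⟩
  have h7p : Fact (Nat.Prime 7) := ⟨by norm_num⟩
  have h2p : Fact (Nat.Prime 2) := ⟨Nat.prime_two⟩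
  obtain ⟨φ, hφ, hφB⟩ := exists_phi
  obtain ⟨f1, f2, f3, f4, f5, f6, f7, f8, f9, f10, f11, f12, f13, f14, f15, f16, f17, f18, f19, f20, f21, f22, f23,
    f24, f25, f26, f27, f28, f29⟩ := facts
  obtain ⟨⟨s1, s2, s3, s5, s6⟩, s7, s8, s9, s10⟩ := signs
  have ord : ∀ {s : Perm (Fin 12)} (h : s.sign = 1) (n : ℕ), orderOf (al s h) = n → orderOf (φ (al s h)) = n :=
    fun h n hn => (orderOf_injective φ hφ _).trans hn
  have com : ∀ {s t : Perm (Fin 12)} (hs : s.sign = 1) (ht : t.sign = 1), s * t = t * s →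
      φ (al s hs) * φ (al t ht) = φ (al t ht) * φ (al s hs) := by
    intro s t hs ht h
    rw [← map_mul, ← map_mul]
    exact congrArg φ (Subtype.ext h)
  have oaA : orderOf (al aA s3) = 3 := by
    simpa using orderOf_al s3 (p := 3) (n := 0) (by simpa using f11) (by simpa using f5)
  have obA : orderOf (al bA s5) = 3 := by
    simpa using orderOf_al s5 (p := 3) (n := 0) (by simpa using f12) (by simpa using f6)
  have oaB : orderOf (al aB s7) = 3 := by
    simpa using orderOf_al s7 (p := 3) (n := 0) (by simpa using f13) (by simpa using f7)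
  have obB : orderOf (al bB s8) = 3 := by
    simpa using orderOf_al s8 (p := 3) (n := 0) (by simpa using f14) (by simpa using f8)
  have ocA : orderOf (al cA s6) = 7 := by
    simpa using orderOf_al s6 (p := 7) (n := 0) (by simpa using f15) (by simpa using f9)
  have ox : orderOf (al x9 s9) = 9 := by
    simpa using orderOf_al s9 (p := 3) (n := 1) (by simpa using f16) (by norm_num; exact f10)
  have osA : orderOf (al sA s1) = 2 := by
    simpa using orderOf_al s1 (p := 2) (n := 0) (by simpa using f3) (by simp only [zero_add, pow_one, sq]; exact f1)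
  -- first class
  have clA : ∀ x : Cfsg.Spor.HN, orderOf x = 9 → ¬ φ (al sA s1) * x = x * φ (al sA s1) := by
    have hcard : ¬ 3 ^ 3 ∣ Nat.card ↥(centralizer ({φ (al sA s1)} : Set Cfsg.Spor.HN)) := by
      rcases SigZeroHN.card_centralizer_cases (ord s1 2 osA) with ⟨-, h⟩ | ⟨-, h⟩
      · rw [h]; norm_num
      · rw [h]; norm_num
    intro x hx
    refine no_sq Nat.prime_three hcard (ord s3 3 oaA) (ord s5 3 obA) (com s3 s5 f17) (com s3 s1 f19) (com s5 s1 f20)
      (not_mem_zpowers (ord s3 3 oaA) ?_ ?_ ?_) (by rw [hx]; norm_num)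
    · rw [Ne, ← map_one φ, hφ.eq_iff]; intro h; exact f25 (congrArg Subtype.val h)
    · rw [Ne, hφ.eq_iff]; intro h; exact f26 (congrArg Subtype.val h)
    · rw [Ne, ← map_pow, hφ.eq_iff]; intro h; exact f27 (congrArg Subtype.val h)
  have clB : ∀ x : Cfsg.Spor.HN, orderOf x = 9 → ¬ φ (al sB s2) * x = x * φ (al sB s2) := by
    have osB : orderOf (al sB s2) = 2 := by
      simpa using orderOf_al s2 (p := 2) (n := 0) (by simpa using f4) (by simp only [zero_add, pow_one, sq]; exact f2)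
    have hcard : ¬ 3 ^ 3 ∣ Nat.card ↥(centralizer ({φ (al sB s2)} : Set Cfsg.Spor.HN)) := by
      rcases SigZeroHN.card_centralizer_cases (ord s2 2 osB) with ⟨-, h⟩ | ⟨-, h⟩
      · rw [h]; norm_num
      · rw [h]; norm_num
    intro x hx
    refine no_sq Nat.prime_three hcard (ord s7 3 oaB) (ord s8 3 obB) (com s7 s8 f18) (com s7 s2 f22) (com s8 s2 f23)
      (not_mem_zpowers (ord s7 3 oaB) ?_ ?_ ?_) (by rw [hx]; norm_num)
    · rw [Ne, ← map_one φ, hφ.eq_iff]; intro h; exact f14 (congrArg Subtype.val h)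
    · rw [Ne, hφ.eq_iff]; intro h; exact f28 (congrArg Subtype.val h)
    · rw [Ne, ← map_pow, hφ.eq_iff]; intro h; exact f29 (congrArg Subtype.val h)
  have hA : IsConj (φ (al sA s1)) (Cfsg.Agent.HN.NormalH.ψ Cfsg.Agent.HN.H0Basic.τ) := by
    rcases SigZeroHN.card_centralizer_cases (ord s1 2 osA) with ⟨h, -⟩ | ⟨-, h⟩
    · exact h
    · exfalso
      have h4 : φ (al cA s6) ∈ centralizer ({φ (al sA s1)} : Set Cfsg.Spor.HN) :=
        mem_centralizer_singleton_iff.2 (com s6 s1 f21)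
      have h5 := orderOf_dvd_natCard (⟨_, h4⟩ : ↥(centralizer ({φ (al sA s1)} : Set Cfsg.Spor.HN)))
      rw [Subgroup.orderOf_mk, ord s6 7 ocA, h] at h5
      norm_num at h5
  have hB : IsConj (φ (al sB s2)) Cfsg.Agent.HN.XWords.W0 := by
    have hW := Cfsg.Agent.HN.XWords.W0_sq
    have h4 : IsConj (Cfsg.Agent.HN.Rep.t⁻¹ * Cfsg.Agent.HN.XWords.W0 * Cfsg.Agent.HN.Rep.t) s4 := by
      refine Cfsg.Agent.UGT.LTF.Link.isConj_of_odd ?_ ?_ (n := 25) (by decide) q_pow
      · rw [← hφB, ← map_mul, ← map_one φ]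
        exact congrArg φ (Subtype.ext f2)
      · calc Cfsg.Agent.HN.Rep.t⁻¹ * Cfsg.Agent.HN.XWords.W0 * Cfsg.Agent.HN.Rep.t * (Cfsg.Agent.HN.Rep.t⁻¹ * Cfsg.Agent.HN.XWords.W0 * Cfsg.Agent.HN.Rep.t) =
            Cfsg.Agent.HN.Rep.t⁻¹ * (Cfsg.Agent.HN.XWords.W0 * Cfsg.Agent.HN.XWords.W0) * Cfsg.Agent.HN.Rep.t := by group
          _ = 1 := by rw [hW]; group
    rw [hφB]
    exact h4.symm.trans (isConj_iff.2 ⟨Cfsg.Agent.HN.Rep.t, by group⟩)
  refine H101.RO.RealOdd.of_elts (x := φ (al x9 s9)) (y := φ (al y9 s10)) (p := 3) (k := 2) Nat.prime_three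
    (by norm_num) (by norm_num) (by rw [ord s9 9 ox]; norm_num) ?_ ?_
  · rw [← map_inv, ← map_inv, ← map_mul, ← map_mul]
    exact congrArg φ (Subtype.ext f24)
  · intro u hu
    rcases SigZeroHN.card_centralizer_cases hu with ⟨h, -⟩ | ⟨h, -⟩
    · exact of_conj (hA.trans h.symm) clA (ord s9 9 ox)
    · exact of_conj (hB.trans h.symm) clB (ord s9 9 ox)

end Alt

universe u

/-- **The Harada-Norton row of S2248** -/
theorem hn {K : Type u} [Group K] (h : Cfsg.Spor.IsoHN K) : H101.RO.RealOdd K := by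
  obtain ⟨e⟩ := h
  exact hn_main.congr e.symm

end Cfsg.Agent.H525.RO
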