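import Cfsg.Agent.H525.RO.CoTf
import Cfsg.Agent.H525.RO.HnRow
import Cfsg.Agent.CpAutBFive.EvenRow
import Cfsg.Agent.BpSpor.BFiveAsm
import Cfsg.Agent.MFive.Fus
import Cfsg.Agent.MFive.Row

/-!
# No involution of the Baby Monster commutes with an element of order 25

Following helper30 and helper92 (`CpAutBFive.EvenRow`): `B = C_Γ(τ) = 2.B` in the Monster `Γ`.  An element `x` of order 25
of `B` commuting with an involution `s ≠ τ` or a square root of `τ` commutes with an involution of type `A` (impossible: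
the centraliser has elementary abelian Sylow 5-subgroups of order 25) or with a conjugate of `z`, `C_Γ(z) = 2^{1+24}.Co1`
(impossible: `Co1` has no element of order 25).
-/

set_option autoImplicit false
set_option maxRecDepth 100000

open Subgroup

namespace Cfsg.Agent.H525.RO.BNo

/-! ### The centraliser of `z` -/

section chart

open Cfsg Cfsg.Agent.MonsterU Cfsg.Agent.MFive Cfsg.Agent.MonsterU.Ch
open Cfsg.Agent.MonsterU.Lam2 (L2)
open Cfsg.Spor (Co1)

universe u

variable {G : Type u} [Group G] {Q : Subgroup G} {z : G} {eta : G → L2}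
  {pi : Subgroup.centralizer ({z} : Set G) →* Co1}

theorem chart_no (h : Chart Q z eta pi) {g : G} (hg : orderOf g = 25) : ¬ g * z = z * g := by
  intro hgz
  let c : Subgroup.centralizer ({z} : Set G) := ⟨g, mem_centralizer_singleton_iff.2 hgz⟩
  have hc : orderOf c = 25 := (Subgroup.orderOf_mk g _).trans hg
  have h25 : (pi c) ^ 5 ^ (1 + 1) = 1 := by rw [← map_pow, show 5 ^ (1 + 1) = 25 by norm_num, ← hc, pow_orderOf_eq_one, map_one]
  have : Fact (Nat.Prime 5) := ⟨Nat.prime_five⟩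
  by_cases h5 : (pi c) ^ 5 ^ 1 = 1
  · rw [← map_pow, h.pi_eq_one] at h5
    have h6 := Cfsg.Agent.MFive.pow_four h h5
    have h7 : g ^ 20 = 1 := by
      rw [← h6]
      show g ^ 20 = (g ^ 5 ^ 1) ^ 4
      rw [← pow_mul]
      norm_num
    have h8 := orderOf_dvd_of_pow_eq_one h7
    rw [hg] at h8
    norm_num at h8
  · have h6 := orderOf_eq_prime_pow h5 h25
    exact CoTf.co1_no (s := pi c) (by rw [h6]; norm_num)

end chart

/-! ### The involutions of type `A` -/

section typeA

open Cfsg Cfsg.Spor Cfsg.Agent.LThreeM.FiThree Cfsg.Agent.LThreeM.FiType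
open Cfsg.Agent.R08.FiTwentyThree Cfsg.Agent.MonsterN
open Cfsg.Agent.Fischer.Fi23Hom (gen)
open Cfsg.Agent.CpAutBFive.FiFive

variable {B : Type*} [Group B] {θ : Fi23 →* B} (hθ : Function.Injective θ)

include hθ in
/-- `x` commuting with an involution of type `A` -/
theorem main_a [Finite B] {f₁ : B} (hi : IsConj f₁ (θ (gen .i)))
    (hcard : ¬ 5 ^ 3 ∣ Nat.card (centralizer ({θ (gen .i)} : Set B))) {x s : B} (hx : orderOf x = 25) (hs : IsConj f₁ s) :
    ¬ s * x = x * s := by
  have : Fact (Nat.Prime 5) := ⟨Nat.prime_five⟩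
  have h2 : s2 ≠ 1 := by
    intro h
    apply s2_notin
    rw [h]
    exact one_mem _
  refine of_conj (hi.symm.trans hs) (fun x hx => ?_) hx
  refine no_sq (p := 5) (a := θ s1) (b := θ s2) Nat.prime_five hcard ?_ ?_ ?_ ?_ ?_ ?_ (by rw [hx]; norm_num)
  · rw [orderOf_injective θ hθ]; exact orderOf_eq_prime s1_five s1_ne
  · rw [orderOf_injective θ hθ]; exact orderOf_eq_prime s2_five h2
  · rw [← map_mul, comm12.eq, map_mul]
  · rw [← map_mul, comm1i.eq, map_mul]
  · rw [← map_mul, comm2i.eq, map_mul]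
  · rintro ⟨k, hk⟩
    apply s2_notin
    refine ⟨k, hθ ?_⟩
    rw [← hk]
    exact map_zpow θ s1 k

end typeA

/-! ### The double cover -/

section core

open Cfsg Cfsg.Agent.R01.Lifts Cfsg.Agent.MonsterN Cfsg.Agent.MonsterN.Lit Cfsg.Agent.BabyComp
open Cfsg.Agent.CpAutBFive Cfsg.Agent.CpAutBFive.BaseU Cfsg.Agent.CpAutBFive.EvenAbs
open Cfsg.Agent.Fischer.Fi23Hom (gen)

/-- an element of odd order of the quotient lifts to an element of the same order -/
theorem exists_lift {B X : Type*} [Group B] [Group X] {q : B →* X} {τ : B} (hq : Ext q τ) {x : X}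
    (hx : orderOf x = 25) : ∃ b : B, orderOf b = 25 ∧ q b = x := by
  obtain ⟨b, rfl⟩ := hq.surj x
  have h1 : q (b ^ 25) = 1 := by rw [map_pow, ← hx, pow_orderOf_eq_one]
  have h2 : b ^ 50 = 1 := by
    have h3 : b ^ 50 = b ^ 25 * b ^ 25 := by rw [← pow_add]
    rw [h3]
    rcases (hq.ker _).1 h1 with h | h
    · rw [h, one_mul]
    · rw [h, hq.zz]
  have h4 : q (b ^ 26) = q b := by rw [pow_succ, map_mul, h1, one_mul]
  refine ⟨b ^ 26, ?_, h4⟩
  apply Nat.dvd_antisymm
  · apply orderOf_dvd_of_pow_eq_one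
    rw [← pow_mul, show 26 * 25 = 50 * 13 by norm_num, pow_mul, h2, one_pow]
  · have h5 := orderOf_map_dvd q (b ^ 26)
    rwa [h4, hx] at h5

/-- lifts of commuting elements commute, one of them being of odd order -/
theorem comm_lift {B X : Type*} [Group B] [Group X] {q : B →* X} {τ : B} (hq : Ext q τ) {b x : B}
    (hx : orderOf x = 25) (h : q b * q x = q x * q b) : b * x = x * b := by
  rcases hq.conj_of_commute (g := b) (a := x) h with h1 | h1
  · exact mul_inv_eq_iff_eq_mul.1 h1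
  · exfalso
    have hx3 : x ^ 25 = 1 := by rw [← hx, pow_orderOf_eq_one]
    have h2 : (b * x * b⁻¹) ^ 25 = 1 := by rw [conj_pow, hx3, mul_one, mul_inv_cancel]
    rw [h1] at h2
    have h3 : Commute x τ := hq.comm x
    rw [h3.mul_pow, hx3, one_mul] at h2
    apply hq.zne
    calc τ = τ ^ 25 := by
          rw [show 25 = 2 * 12 + 1 by norm_num, pow_succ, pow_mul, pow_two, hq.zz, one_pow, one_mul]
      _ = 1 := h2

/-- **The core.** -/
theorem core {B E : Type*} [Group B] [Group E] [Finite B] [Finite Spor.BabyMonster] {τ f₁ f₂ f₃ f₄ : B}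
    {q : B →* Spor.BabyMonster} {y : ℕ → B} {h : Pre y} {π : KK y →* E} {R : Set E}
    (hq : Ext q τ) (h10 : y 10 = τ) (D : KD h R π) (Fc : FusionType.Facts τ f₁ f₂ f₃ f₄)
    (hc5 : IsConj f₁ (y 5))
    (hcard : Nat.card ↥(centralizer ({q (y 5)} : Set Spor.BabyMonster)) = 306129918735099415756800)
    {F : Type*} [Field F] [Fintype F] {hF : Fintype.card F = 2 ^ 2}
    (hR : Cfsg.Agent.BabyU.RootCfg.RootFacts hF R) (hX : Cfsg.Agent.BabyU.Key.Extra hF R)
    (Rt : Cfsg.Agent.BabyU.Lab.Roots E R) (big : KEq.Big B τ (y 5))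
    {M₁ : Subgroup Spor.BabyMonster} (Bs : Main.Base (q (y 5)) M₁)
    (BU : BaseU (q (y 5)) M₁) {Γ : Type*} [Group Γ] {ι : B →* Γ} (hι : Function.Injective ι) {z : Γ}
    (hcz : IsConj z (ι (τ * (f₁ * f₂)))) (hcd : IsConj z (ι (f₁ * f₂ * f₃)))
    (hz : ∀ g : Γ, orderOf g = 25 → ¬ z * g = g * z) {u x : Spor.BabyMonster} (hu : orderOf u = 2)
    (hx : orderOf x = 25) : ¬ u * x = x * u := by
  have h5 : y 5 * y 5 = 1 := h.sq 5 (by norm_num) (by norm_num)
  have hq5 : q (y 5) ≠ 1 := by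
    intro e
    rcases (hq.ker _).1 e with h1 | h1
    · exact D.ne1 h1
    · exact D.ne (h10.trans h1.symm)
  have hzi : ∀ s : B, IsConj z (ι s) → ∀ x : B, orderOf x = 25 → ¬ s * x = x * s := by
    intro s hs x hx hsx
    refine of_conj hs hz ((orderOf_injective ι hι x).trans hx) ?_
    rw [← map_mul, hsx, map_mul]
  -- involutions
  have key : ∀ x s : B, orderOf x = 25 → s * s = 1 → s ≠ 1 → s ≠ τ → ¬ s * x = x * s := by
    intro x s hx hs hs1 hsτ
    rcases Fc.classes s hs hs1 hsτ with h1 | h1 | h1 | h1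
    · obtain ⟨θ, hθ⟩ := LThreeM.FiPar.exists_hom h.fiRel
      have hy4 : θ (gen .j) = y 4 := hθ .j
      have h45 : IsConj (y 4) (y 5) := CardK.isConj_four h
      have hf14 : IsConj f₁ (y 4) := hc5.trans h45.symm
      have n1 : f₁ ≠ 1 := by
        intro h
        have h1 := Fc.a_t
        rw [h, mul_one] at h1
        exact Fc.t_ne (isConj_one_right.1 h1)
      have hsimple : IsSimpleGroup Spor.Fi23 := Cfsg.Agent.S1697.result.1
      have hinj : Function.Injective θ := by
        rw [← MonoidHom.ker_eq_bot_iff]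
        rcases hsimple.eq_bot_or_eq_top_of_normal θ.ker inferInstance with h | h
        · exact h
        · exfalso
          have h1 : gen .j ∈ θ.ker := by rw [h]; exact Subgroup.mem_top _
          have h2 : y 4 = 1 := by rw [← hy4]; exact h1
          rw [h2] at hf14
          exact n1 (isConj_one_left.1 hf14)
      have hi : IsConj f₁ (θ (gen .i)) := by
        refine hf14.trans ?_
        rw [← hy4]
        apply θ.map_isConj
        have h1 := Cfsg.Agent.R08.FiTwentyThree.gen_mem_D .i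
        have h2 := Cfsg.Agent.R08.FiTwentyThree.gen_mem_D .j
        exact (show IsConj _ (gen .j) from h2).symm.trans h1
      refine main_a hinj hi ?_ hx h1
      have h6 : Nat.card ↥(centralizer ({θ (gen .i)} : Set B)) = Nat.card ↥(centralizer ({y 5} : Set B)) :=
        CardK.card_centralizer_isConj (hi.symm.trans hc5)
      rw [h6]
      intro h7
      have h8 := h7.trans (card_centralizer_dvd hq (y 5))
      rw [hcard] at h8
      norm_num at h8
    · intro hsx
      refine hzi (τ * s) (hcz.trans (ι.map_isConj (FusionType.conj_mul_t Fc.cen h1))) x hx ?_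
      rw [mul_assoc, hsx, ← mul_assoc, ← Fc.cen, mul_assoc]
    · exact hzi s (hcz.trans (ι.map_isConj h1)) x hx
    · exact hzi s (hcd.trans (ι.map_isConj h1)) x hx
  -- the Baby Monster
  obtain ⟨x', hx', rfl⟩ := exists_lift hq hx
  obtain ⟨b, rfl⟩ := hq.surj u
  intro hux
  have hbx := comm_lift hq hx' hux
  have huu : q b * q b = 1 := by rw [← pow_two, ← hu, pow_orderOf_eq_one]
  have hu1 : q b ≠ 1 := by
    intro h
    rw [h, orderOf_one] at hu
    omega
  rcases (hq.ker (b * b)).1 (by rw [map_mul, huu]) with hbb | hbb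
  · exact key x' b hx' hbb (fun e => hu1 (by rw [e, map_one])) (fun e => hu1 (by rw [e, hq.mapz])) hbx
  · obtain ⟨s, hs, hs1, hsτ, hxs⟩ := exists_inv hq BU h5 hq5 (by
      intro k hk hkk
      obtain ⟨k', hk', hkq⟩ := Main.M_le hq h10 big Bs _ hk
      have h1 : k' * k' = 1 := Main.lift_sq hR hX Rt hq h10 D hk' (by rw [hkq, hkk])
      rcases hq.map_eq.1 hkq.symm with h2 | h2
      · rw [h2, h1]
      · rw [h2]
        calc k' * τ * (k' * τ) = k' * (τ * (k' * τ)) := by group
          _ = k' * (k' * τ * τ) := by rw [← hq.comm (k' * τ)]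
          _ = (k' * k') * (τ * τ) := by group
          _ = 1 := by rw [h1, hq.zz, mul_one]) (x := x') (w := b) (by rw [hx']; decide) hbb hbx.symm
    exact key x' s hx' hs hs1 hsτ hxs.symm

end core

/-! ### The model of the Monster -/

section par

open Cfsg Cfsg.Lie Cfsg.Agent.Bimonster Cfsg.Agent.BabyU Cfsg.Agent.TwoESix.Cover
open Cfsg.Agent.MonsterX.KSide Cfsg.Agent.MonsterX.KLift Cfsg.Agent.MonsterX.KModel
open Cfsg.Agent.MonsterX.Model Cfsg.Agent.MonsterX.MainPack Cfsg.Agent.MonsterX.MainSimple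
open Cfsg.Agent.MonsterX.MainBasic Cfsg.Agent.MonsterU.Assembly Cfsg.Agent.MonsterN Cfsg.Agent.MonsterN.Lit
open Cfsg.Agent.MonsterN.LitInst Cfsg.Agent.MonsterU.Lam2 Cfsg.Agent.MonsterU.TwoCls Cfsg.Agent.BabyComp
open Cfsg.Agent.CpAutBFive.BaseU

variable {V P W : Type} [AddCommGroup V] [Module ℚ V] [Group P] [AddCommGroup W] [Module ℚ W]
  {D : MData V} {M : KS ↥D.G V P W} {x₀ : P} {θ : leechLattice → P} {K₀ : Type} [Group K₀]

/-- **No involution of the Baby Monster commutes with an element of order 25**, from the facts on a model. -/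
theorem no_par (A : All D K₀) (H : Link D M x₀) (L : Lift M θ) {τ : D.G} {y' : P}
    (T : Cfsg.Agent.MonsterU.InvTwo.TauHyp M θ ⊤ τ y') {y : ℕ → D.G} (hP : PRel y) (hne : y 0 ≠ y 1)
    (hy : ∃ g : D.G, g * tG A.hG A.hR * g⁻¹ = y 10)
    (hz : ∀ g : D.G, orderOf g = 25 → ¬ M.z * g = g * M.z) {u x : Spor.BabyMonster} (hu : orderOf u = 2)
    (hx : orderOf x = 25) : ¬ u * x = x * u := by
  have hfin : Finite D.G := G_finite A.hO
  have hB : Cfsg.IsB Cfsg.Spor.BabyMonster := Cfsg.Agent.S1704.result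
  obtain ⟨⟨h1, h2, h3⟩, h43⟩ := ModelB.fieldsKS A H L hP hne hy hB H.x₀_mem
  obtain ⟨f₁, f₂, f₃, f₄, Fc, hcz, hcd, p, hp, hp2, hp2'⟩ := FusInst.exists_facts A H L T H.x₀_mem
  have hzm : M.z ∈ BB M x₀ := mem_centralizer_singleton_iff.2 (by
    show M.ι M.zc * M.ι x₀ = M.ι x₀ * M.ι M.zc
    rw [← map_mul, ← map_mul, M.zc_comm])
  have hE : Emb (BB M x₀).subtype M.z (tb M x₀) f₁ f₂ f₃ :=
    ⟨Subtype.val_injective, nineteen H A, ((BB M x₀).subtype.map_isConj (hcz hzm)).symm, hcd⟩
  -- the group `²E₆(2)`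
  let K := GaloisField 2 2
  let _i : Fintype K := Fintype.ofFinite K
  have hK : Fintype.card K = 4 := by
    rw [← Nat.card_eq_fintype_card]
    exact GaloisField.card 2 2 (by norm_num)
  have hF : Fintype.card K = 2 ^ 2 := by rw [hK]; norm_num
  have hsE := EInst.isSimple K hK
  obtain ⟨e0, r, he0, hgen, hr, -, hconj⟩ := TwoESix.GoodInst.exists_good K hK
  have hR : ∀ i, e0 i ∈ rootClass K := fun i => by
    obtain ⟨g, hg⟩ := hconj i
    exact ⟨g, r, hr, hg⟩
  have hHB : Finite HB := Cfsg.Agent.BM.HBFinal.finite_HB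
  have hcard := Cfsg.Agent.BM.HBFinal.hcard K hK
  have big_a : KEq.Big (BB M x₀) (tb M x₀) f₁ := by
    have hm : M.ι p ∈ BB M x₀ := by rw [← hp]; exact f₁.2
    have e : f₁ = ⟨M.ι p, hm⟩ := Subtype.ext hp
    rw [e]
    exact BigAConf.big_a L T H.x₀_mem h43 hp2 hp2'
  obtain ⟨q, yB, hpre, π, hq, h10, DK, hc5, hq5⟩ :=
    NodesB.nodes he0 hgen hcard (Cfsg.Agent.BM.HBFinal.card_E K hK) hR h1 h2 h3 Fc hE
  obtain ⟨M₁, Bs, BU⟩ := Cfsg.Agent.CpAutBFive.BaseU.exists_baseU hq5
  have hfX : Finite Spor.BabyMonster := Finite.of_surjective q hq.surj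
  have big : KEq.Big (BB M x₀) (tb M x₀) (yB 5) := big_a.conj (fun x => (Fc.cen x).symm) hc5
  have hcard5 : Nat.card (centralizer ({q (yB 5)} : Set Spor.BabyMonster)) = 306129918735099415756800 := by
    rw [CardK.card_centralizer_isConj hq5]
    exact BM.KHAll.card_cent .t1
  exact core (E := twistedE6 K 2) (hF := hF) hq h10 DK Fc hc5 hcard5
    (Cfsg.Agent.TwoESix.LeviG.rootFacts hK hF) (KeyInst.extra hF) (Cfsg.Agent.TwoESix.RootsInst.roots K hF) big Bs BU
    hE.inj hE.conj_z hE.conj_d hz hu hx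

end par

/-! ### The Baby Monster -/

section final

open Cfsg Cfsg.Lie Cfsg.Agent.Bimonster Cfsg.Agent.MonsterX Cfsg.Agent.MonsterX.InstData Cfsg.Agent.MonsterX.MainPack
open Cfsg.Agent.MonsterU Cfsg.Agent.MonsterP Cfsg.Agent.MonsterN
open Cfsg.Agent.LThreeMB (KChart.Cent KChart.pi KChart.chart)

/-- **No involution of the Baby Monster commutes with an element of order 25.** -/
theorem no_comm {u x : Spor.BabyMonster} (hu : orderOf u = 2) (hx : orderOf x = 25) : ¬ u * x = x * u := by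
  refine no_par LitFin.all KDone.lnk KDone.lft
    (TauInst.tauHyp (Final.cent InstanceFinal.mOrbit Instance.mTrans)) (NodesGrp.prel LitFin.H)
    (NodesNe.ne LitFin.H) LitFin.conj_ten (fun g hg hgz => ?_) hu hx
  exact chart_no (KChart.chart MonsterX.KDone.lft MFive.Row.hc) hg hgz.symm

end final

end Cfsg.Agent.H525.RO.BNo
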