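import Cfsg.Agent.CoFive.Ranks
import Cfsg.Agent.S0397

/-!
# The groups `Co0` and `Co1` have no elements of order 25

The Sylow 5-subgroup `PP dat = 5³ : 5` of `Co0` (`CoFive.Rel`) has exponent five.
-/

set_option autoImplicit false

namespace Cfsg.Agent.H525.RO.CoTf

open Cfsg Cfsg.Agent.CoFive.Abs
open Cfsg.Spor (Co1)

variable {G : Type*} [Group G] {a b c u : G}

theorem sum_zero : ∀ (i : ZMod 5) (v : V),
    v + ac^[i.val] v + ac^[(i + i).val] v + ac^[(i + i + i).val] v + ac^[(i + i + i + i).val] v = 0 := by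
  decide +kernel

theorem five_zero : ∀ i : ZMod 5, (i + i + i + i + i).val = 0 := by decide

/-- the exponent of `5³ : 5` -/
theorem pow_five (D : Dat a b c u) (v : V) (i : ZMod 5) : (Ph a b c v * u ^ i.val) ^ 5 = 1 := by
  simp only [pow_succ _ 4, pow_succ _ 3, pow_succ _ 2, pow_succ _ 1, pow_one]
  rw [D.mul, D.mul, D.mul, D.mul, sum_zero, five_zero, Ph_zero, pow_zero, one_mul]

/-- `x ^ 5 = 1` for all 5-elements -/
theorem pow_five_of [Finite G] (D : Dat a b c u) {m : ℕ} (hG : Nat.card G = 5 ^ 4 * m) (hm : ¬ 5 ∣ m) {g : G} {n : ℕ}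
    (hg : g ^ 5 ^ n = 1) : g ^ 5 = 1 := by
  have : Fact (Nat.Prime 5) := ⟨Nat.prime_five⟩
  have hP : IsPGroup 5 (PP D) := IsPGroup.of_card (card_PP D)
  obtain ⟨Q, hQ⟩ := hP.exists_le_sylow
  have hQc : Nat.card Q = 5 ^ 4 := by
    obtain ⟨n, hn⟩ := IsPGroup.iff_card.1 Q.isPGroup'
    have h1 : 5 ^ 4 ∣ 5 ^ n := by rw [← hn, ← card_PP D]; exact Subgroup.card_dvd_of_le hQ
    have h2 : 5 ^ n ∣ 5 ^ 4 * m := by rw [← hn, ← hG]; exact Subgroup.card_subgroup_dvd_card _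
    have h3 : 4 ≤ n := (Nat.pow_dvd_pow_iff_le_right (by norm_num)).1 h1
    have h4 : n ≤ 4 := by
      by_contra hcon
      push Not at hcon
      have h5 : 5 ^ 5 ∣ 5 ^ 4 * m := (pow_dvd_pow 5 hcon).trans h2
      rw [pow_succ] at h5
      exact hm (Nat.dvd_of_mul_dvd_mul_left (by norm_num) h5)
    rw [hn, le_antisymm h4 h3]
  have hPQ : PP D = Q := Subgroup.eq_of_le_of_card_ge hQ (by rw [hQc, card_PP D])
  have hgp : IsPGroup 5 (Subgroup.zpowers g) := by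
    rintro ⟨_, k, rfl⟩
    refine ⟨n, Subtype.ext ?_⟩
    show (g ^ k) ^ 5 ^ n = 1
    rw [← zpow_natCast, ← zpow_mul, mul_comm, zpow_mul, zpow_natCast, hg, one_zpow]
  obtain ⟨S, hS⟩ := hgp.exists_le_sylow
  obtain ⟨d, hd⟩ := MulAction.exists_smul_eq G S Q
  have h1 : d * g * d⁻¹ ∈ (Q : Subgroup G) := by
    rw [← hd]
    exact ⟨g, hS (Subgroup.mem_zpowers g), rfl⟩
  rw [← hPQ] at h1
  obtain ⟨v, i, h2⟩ := h1
  have h3 : (d * g * d⁻¹) ^ 5 = 1 := by rw [h2]; exact pow_five D v i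
  rw [conj_pow] at h3
  calc g ^ 5 = d⁻¹ * (d * g ^ 5 * d⁻¹) * d := by group
    _ = 1 := by rw [h3]; group

theorem co0_pow {g : Co0} {n : ℕ} (hg : g ^ 5 ^ n = 1) : g ^ 5 = 1 := by
  have := Cfsg.Agent.CoFive.Class.finite_co0
  exact pow_five_of Cfsg.Agent.CoFive.Class.dat (m := 13304885780938752) (by rw [Cfsg.Agent.S0397.result]; norm_num)
    (by norm_num) hg

/-- **`Co1` has no elements of order 25.** -/
theorem co1_no {s : Co1} (hs : orderOf s = 25) : False := by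
  obtain ⟨g, rfl⟩ := QuotientGroup.mk_surjective s
  have h25 : (QuotientGroup.mk g : Co1) ^ 25 = 1 := by rw [← hs, pow_orderOf_eq_one]
  rw [← QuotientGroup.mk_pow, QuotientGroup.eq_one_iff] at h25
  have h50 : (g ^ 25) ^ 2 = 1 := Cfsg.Agent.CoFive.Ranks.sq_of_center h25
  have h1 : (g ^ 2) ^ 5 ^ 2 = 1 := by
    calc (g ^ 2) ^ 5 ^ 2 = (g ^ 25) ^ 2 := by rw [← pow_mul, ← pow_mul]; norm_num
      _ = 1 := h50
  have h2 := co0_pow h1
  have h3 : (QuotientGroup.mk g : Co1) ^ 10 = 1 := by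
    rw [← QuotientGroup.mk_pow]
    have h4 : g ^ 10 = 1 := by rw [← h2, ← pow_mul]
    rw [h4]
    rfl
  have h5 := orderOf_dvd_of_pow_eq_one h3
  rw [hs] at h5
  norm_num at h5

end Cfsg.Agent.H525.RO.CoTf
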